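import Mathlib
import Groth.Prelude.Def_StGerb
import Groth.Agent.Lib.Helper19.StPts

/-!
# Sieves of local liftability for gerbes (helper19)
-/

set_option autoImplicit false
set_option backward.isDefEq.respectTransparency false

universe u₃ v₃ u₂ v₂ v u

open CategoryTheory CategoryTheory.Limits

namespace Groth.Agent.Helper19.GerbD

open FibCat Gerb

variable {C : Type u} [Category.{v} C] (J : GrothendieckTopology C)
  {𝒳 : BasedCategory.{v₂, u₂} C} {𝒴 : BasedCategory.{v₃, u₃} C}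

/-- pulling back an object along a morphism to its base. -/
theorem exists_pullback_obj (h𝒳 : IsFibGrpd 𝒳.p) {V U : C} (h : V ⟶ U) (x : 𝒳.obj)
    (hx : 𝒳.p.obj x = U) : ∃ (x' : 𝒳.obj) (φ : x' ⟶ x), 𝒳.p.IsHomLift h φ := by
  obtain ⟨x', φ, hφ⟩ := h𝒳.exists_lift (h ≫ eqToHom hx.symm)
  exact ⟨x', φ, (IsHomLift.lift_comp_eqToHom_iff 𝒳.p h φ hx.symm).1 hφ⟩

/-- the sieve of morphisms along which `y` lifts to `𝒳`. -/
def liftSieve (h𝒳 : IsFibGrpd 𝒳.p) (F : 𝒳 ⥤ᵇ 𝒴) (y : 𝒴.obj) {U : C} (hy : 𝒴.p.obj y = U) : Sieve U where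
  arrows V f := ∃ (x : 𝒳.obj) (m : F.obj x ⟶ y), 𝒴.p.IsHomLift f m
  downward_closed := by
    rintro V W f ⟨x, m, hm⟩ h
    have hx : 𝒳.p.obj x = V := by
      rw [← F.w_obj]
      exact IsHomLift.domain_eq 𝒴.p f m
    obtain ⟨x', φ, hφ⟩ := exists_pullback_obj h𝒳 h x hx
    have h1 : 𝒴.p.IsHomLift h (F.map φ) := inferInstance
    exact ⟨x', F.map φ ≫ m, inferInstance⟩

theorem locSurjObj_iff (h𝒳 : IsFibGrpd 𝒳.p) (F : 𝒳 ⥤ᵇ 𝒴) :
    LocSurjObj J F ↔ ∀ (y : 𝒴.obj) (U : C) (hy : 𝒴.p.obj y = U), liftSieve h𝒳 F y hy ∈ J U := by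
  constructor
  · intro h y U hy
    subst hy
    obtain ⟨R, hR, hRl⟩ := h y
    exact J.superset_covering (fun V f hf => hRl f hf) hR
  · intro h y
    exact ⟨liftSieve h𝒳 F y rfl, h y _ rfl, fun V f hf => hf⟩

/-- the sieve of morphisms along which `b` lifts to a morphism of `𝒳`. -/
def homSieve (h𝒳 : IsFibGrpd 𝒳.p) (F : 𝒳 ⥤ᵇ 𝒴) (x x' : 𝒳.obj) (b : F.obj x ⟶ F.obj x') {U : C}
    (hx : 𝒳.p.obj x = U) : Sieve U where
  arrows V f := ∃ (x₀ : 𝒳.obj) (φ : x₀ ⟶ x) (ψ : x₀ ⟶ x'),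
    𝒳.p.IsHomLift f φ ∧ 𝒳.p.IsHomLift f ψ ∧ F.map φ ≫ b = F.map ψ
  downward_closed := by
    rintro V W f ⟨x₀, φ, ψ, hφ, hψ, hb⟩ h
    have hx₀ : 𝒳.p.obj x₀ = V := IsHomLift.domain_eq 𝒳.p f φ
    obtain ⟨x₁, χ, hχ⟩ := exists_pullback_obj h𝒳 h x₀ hx₀
    refine ⟨x₁, χ ≫ φ, χ ≫ ψ, inferInstance, inferInstance, ?_⟩
    rw [F.toFunctor.map_comp, F.toFunctor.map_comp, Category.assoc, hb]

theorem locSurjHom_iff (h𝒳 : IsFibGrpd 𝒳.p) (F : 𝒳 ⥤ᵇ 𝒴) :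
    LocSurjHom J F ↔ ∀ (x x' : 𝒳.obj) (b : F.obj x ⟶ F.obj x') (U : C) (hx : 𝒳.p.obj x = U),
      𝒴.p.IsHomLift (𝟙 U) b → homSieve h𝒳 F x x' b hx ∈ J U := by
  constructor
  · intro h x x' b U hx hb
    subst hx
    obtain ⟨R, hR, hRl⟩ := h x x' b hb
    exact J.superset_covering (fun V f hf => hRl f hf) hR
  · intro h x x' b hb
    exact ⟨homSieve h𝒳 F x x' b rfl, h x x' b _ rfl hb, fun V f hf => hf⟩

/-- a sieve is covering as soon as its pullbacks along a covering family of arrows contain covering sieves. -/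
theorem mem_of_ofArrows {U : C} (R : Sieve U) {ι : Type*} (V : ι → C) (g : ∀ i, V i ⟶ U)
    (hcov : Sieve.ofArrows V g ∈ J U)
    (h : ∀ i, ∃ Ri ∈ J (V i), ∀ ⦃W : C⦄ (k : W ⟶ V i), Ri k → R (k ≫ g i)) : R ∈ J U := by
  refine J.transitive hcov R ?_
  intro W f hf
  obtain ⟨i, a, rfl⟩ := (Sieve.mem_ofArrows_iff V g f).1 hf
  obtain ⟨Ri, hRi, hRiR⟩ := h i
  rw [Sieve.pullback_comp]
  refine J.superset_covering ?_ (J.pullback_stable a hRi)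
  intro W' k hk
  exact hRiR (k ≫ a) hk

end Groth.Agent.Helper19.GerbD
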