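import Mathlib
import Groth.Agent.Lib.Helper19.GerbD.Sieves
import Groth.Agent.Lib.Helper19.FibLib2
import Groth.Agent.S6401

/-!
# Being a gerbe is stable under base change (helper19)
-/

set_option autoImplicit false
set_option backward.isDefEq.respectTransparency false

universe u

open CategoryTheory CategoryTheory.Limits AlgebraicGeometry

namespace Groth.Agent.Helper19.GerbD

open FibCat AlgSt Gerb Groth.Agent.Helper19.FibLib Groth.Agent.Helper19.StPts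

variable {S : Scheme.{u}} {𝒳 𝒴 𝒵 : AlgSt.Cat S} (J : GrothendieckTopology (Over S))

theorem locSurjObj_fpFst (h𝒳 : IsFibGrpd 𝒳.p) (h𝒴 : IsFibGrpd 𝒴.p) (h𝒵 : IsFibGrpd 𝒵.p)
    (f : 𝒳 ⥤ᵇ 𝒴) (g : 𝒵 ⥤ᵇ 𝒴) (hf : LocSurjObj J f) : LocSurjObj J (fpFst g f) := by
  have hfp : IsFibGrpd (fp g f).p := Groth.Agent.S6401.result g f h𝒵 h𝒳 h𝒴
  rw [locSurjObj_iff J hfp]
  intro z U hz
  have h1 := (locSurjObj_iff J h𝒳 f).1 hf (g.obj z) U ((g.w_obj z).trans hz)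
  refine J.superset_covering ?_ h1
  rintro V c ⟨x, m, hm⟩
  obtain ⟨z', ζ, hζ⟩ := exists_pullback_obj h𝒵 c z hz
  have hgζ : 𝒴.p.IsHomLift c (g.map ζ) := inferInstance
  obtain ⟨χ, hχ, -, hχi⟩ := exists_iso_of_lifts h𝒴 c m (g.map ζ)
  have hz' : 𝒵.p.obj z' = V := IsHomLift.domain_eq 𝒵.p c ζ
  have hι : 𝒴.p.IsHomLift (𝟙 (𝒵.p.obj z')) (asIso χ).hom := by
    rw [hz']
    exact hχ
  let w : (fp g f).obj := ⟨{ fst := z', snd := x, iso := asIso χ }, hι⟩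
  exact ⟨w, ζ, hζ⟩

theorem locSurjHom_fpFst (h𝒳 : IsFibGrpd 𝒳.p) (h𝒴 : IsFibGrpd 𝒴.p) (h𝒵 : IsFibGrpd 𝒵.p)
    (f : 𝒳 ⥤ᵇ 𝒴) (g : 𝒵 ⥤ᵇ 𝒴) (hf : LocSurjHom J f) : LocSurjHom J (fpFst g f) := by
  have hfp : IsFibGrpd (fp g f).p := Groth.Agent.S6401.result g f h𝒵 h𝒳 h𝒴
  rw [locSurjHom_iff J hfp]
  intro w w' b U hw hb
  have hwU : 𝒵.p.obj w.obj.fst = U := hw
  have hb' : 𝒵.p.IsHomLift (𝟙 U) (b : w.obj.fst ⟶ w'.obj.fst) := hb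
  have hw'U : 𝒵.p.obj w'.obj.fst = U := IsHomLift.codomain_eq 𝒵.p (𝟙 U) b
  have hι : 𝒴.p.IsHomLift (𝟙 U) w.obj.iso.hom := by
    have h0 : 𝒴.p.IsHomLift (𝟙 (𝒵.p.obj w.obj.fst)) w.obj.iso.hom := w.property
    rw [hwU] at h0
    exact h0
  have hι' : 𝒴.p.IsHomLift (𝟙 U) w'.obj.iso.hom := by
    have h0 : 𝒴.p.IsHomLift (𝟙 (𝒵.p.obj w'.obj.fst)) w'.obj.iso.hom := w'.property
    rw [hw'U] at h0
    exact h0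
  have hιinv : 𝒴.p.IsHomLift (𝟙 U) w.obj.iso.inv := inferInstance
  have hgb : 𝒴.p.IsHomLift (𝟙 U) (g.map b) := inferInstance
  have hβ : 𝒴.p.IsHomLift (𝟙 U) (w.obj.iso.inv ≫ g.map b ≫ w'.obj.iso.hom) := by
    have : 𝒴.p.IsHomLift (𝟙 U ≫ 𝟙 U ≫ 𝟙 U) (w.obj.iso.inv ≫ g.map b ≫ w'.obj.iso.hom) :=
      inferInstance
    simpa using this
  have hxs : 𝒳.p.obj w.obj.snd = U := by
    rw [← f.w_obj]
    exact IsHomLift.codomain_eq 𝒴.p (𝟙 U) w.obj.iso.hom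
  have h1 := (locSurjHom_iff J h𝒳 f).1 hf w.obj.snd w'.obj.snd
    (w.obj.iso.inv ≫ g.map b ≫ w'.obj.iso.hom) U hxs hβ
  refine J.superset_covering ?_ h1
  rintro V c ⟨x₀, φ, ψ, hφ, hψ, hβeq⟩
  obtain ⟨z₀, ζ, hζ⟩ := exists_pullback_obj h𝒵 c w.obj.fst hwU
  have hgζ : 𝒴.p.IsHomLift c (g.map ζ) := inferInstance
  have hfφ : 𝒴.p.IsHomLift c (f.map φ) := inferInstance
  have hgζι : 𝒴.p.IsHomLift c (g.map ζ ≫ w.obj.iso.hom) := by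
    have : 𝒴.p.IsHomLift (c ≫ 𝟙 U) (g.map ζ ≫ w.obj.iso.hom) := inferInstance
    simpa using this
  obtain ⟨α₀, hα₀, hα₀c, hα₀i⟩ := exists_iso_of_lifts h𝒴 c (f.map φ) (g.map ζ ≫ w.obj.iso.hom)
  have hz₀ : 𝒵.p.obj z₀ = V := IsHomLift.domain_eq 𝒵.p c ζ
  have hι₀ : 𝒴.p.IsHomLift (𝟙 (𝒵.p.obj z₀)) (asIso α₀).hom := by
    rw [hz₀]
    exact hα₀
  let w₀ : (fp g f).obj := ⟨{ fst := z₀, snd := x₀, iso := asIso α₀ }, hι₀⟩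
  have e1 : g.map ζ ≫ w.obj.iso.hom = w₀.obj.iso.hom ≫ f.map φ := hα₀c.symm
  have e2 : g.map (ζ ≫ b) ≫ w'.obj.iso.hom = w₀.obj.iso.hom ≫ f.map ψ := by
    have : w₀.obj.iso.hom = α₀ := rfl
    rw [this, ← hβeq, ← Category.assoc α₀, hα₀c, g.toFunctor.map_comp]
    simp
  let Φ : w₀ ⟶ w := fpHomMk ζ φ e1
  let Ψ : w₀ ⟶ w' := fpHomMk (ζ ≫ b) ψ e2
  have hζb : 𝒵.p.IsHomLift c (ζ ≫ b) := by
    have : 𝒵.p.IsHomLift (c ≫ 𝟙 U) (ζ ≫ b) := inferInstance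
    simpa using this
  refine ⟨w₀, Φ, Ψ, (fp_isHomLift_iff _ _).2 hζ, (fp_isHomLift_iff _ _).2 hζb, rfl⟩

theorem isGerbeOver_fpFst (h𝒳 : IsFibGrpd 𝒳.p) (h𝒴 : IsFibGrpd 𝒴.p) (h𝒵 : IsFibGrpd 𝒵.p)
    (f : 𝒳 ⥤ᵇ 𝒴) (g : 𝒵 ⥤ᵇ 𝒴) (hf : IsGerbeOver J f) : IsGerbeOver J (fpFst g f) :=
  ⟨locSurjObj_fpFst J h𝒳 h𝒴 h𝒵 f g hf.1, locSurjHom_fpFst J h𝒳 h𝒴 h𝒵 f g hf.2⟩

end Groth.Agent.Helper19.GerbD
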