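import Mathlib
import Groth.Agent.Lib.Helper19.GerbD.BaseChange
import Groth.Agent.Lib.Helper19.YonLib
import Groth.Agent.Lib.Helper19.StPts3
import Groth.Agent.Lib.Helper19.ProdAlg
import Groth.Agent.Lib.Helper15.FppfBridge4
import Groth.Agent.S6409

/-!
# A gerbe morphism of algebraic stacks is a universal homeomorphism (helper19)
-/

set_option autoImplicit false
set_option backward.isDefEq.respectTransparency false

universe u

open CategoryTheory CategoryTheory.Limits AlgebraicGeometry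

namespace Groth.Agent.Helper19.GerbD

open FibCat AlgSt Gerb Groth.Agent.Helper19.FibLib Groth.Agent.Helper19.StPts
  Groth.Agent.Helper19.YonLib

variable {S : Scheme.{u}} {𝒳 𝒴 𝒵 : AlgSt.Cat S}

/-- a covering sieve of a nonempty scheme contains a morphism from the spectrum of a field. -/
theorem exists_field_arrow_of_mem_J {T : Over S} [Nonempty ↥T.left] (R : Sieve T)
    (hR : R ∈ (QuotSh.J Scheme.fppfPrecoverage S) T) :
    ∃ (L : Type u) (_ : Field L) (s : Spec (CommRingCat.of L) ⟶ S) (k : Over.mk s ⟶ T), R k := by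
  obtain ⟨T', c, hRc, -, -, hsurj⟩ := Groth.Agent.Helper15.Bridge.exists_family_of_mem_J R hR
  obtain ⟨t₀⟩ := (inferInstance : Nonempty ↥T.left)
  obtain ⟨i, v, -⟩ := hsurj t₀
  let k₀ : Over.mk ((T' i).left.fromSpecResidueField v ≫ (T' i).hom) ⟶ T' i :=
    Over.homMk ((T' i).left.fromSpecResidueField v) rfl
  exact ⟨↥((T' i).left.residueField v), inferInstance,
    (T' i).left.fromSpecResidueField v ≫ (T' i).hom, k₀ ≫ c i, R.downward_closed (hRc i) k₀⟩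

instance nonempty_pt (q : FPt 𝒴) : Nonempty ↥(pt q).left :=
  inferInstanceAs (Nonempty (PrimeSpectrum q.K))

theorem surjective_map_of_locSurjObj (h𝒳 : IsFibGrpd 𝒳.p) (f : 𝒳 ⥤ᵇ 𝒴)
    (hf : LocSurjObj (QuotSh.J Scheme.fppfPrecoverage S) f) : Function.Surjective (Points.map f) := by
  intro w
  obtain ⟨q, rfl⟩ := Points.mk_surjective w
  have h1 := (locSurjObj_iff _ h𝒳 f).1 hf q.obj (pt q) q.lies
  obtain ⟨L, _, s, k, x, m, hm⟩ := exists_field_arrow_of_mem_J _ h1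
  have hx : 𝒳.p.obj x = Over.mk s := by
    rw [← f.w_obj]
    exact IsHomLift.domain_eq 𝒴.p k m
  let p : FPt 𝒳 := { K := L, str := s, obj := x, lies := hx }
  refine ⟨Points.mk p, ?_⟩
  rw [Points.map_mk]
  exact Points.sound (rel_of_hom (p := p.map f) (q := q) m)

theorem injective_map_of_locSurjHom (h𝒳 : IsFibGrpd 𝒳.p) (h𝒴 : IsFibGrpd 𝒴.p) (f : 𝒳 ⥤ᵇ 𝒴)
    (hf : LocSurjHom (QuotSh.J Scheme.fppfPrecoverage S) f) : Function.Injective (Points.map f) := by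
  intro w₁ w₂ e
  obtain ⟨p₁, rfl⟩ := Points.mk_surjective w₁
  obtain ⟨p₂, rfl⟩ := Points.mk_surjective w₂
  rw [Points.map_mk, Points.map_mk, mk_eq_mk_iff h𝒴] at e
  obtain ⟨r, α, β, -⟩ := e
  let a : pt r ⟶ pt p₁ := baseHom (p := r) (q := p₁.map f) α
  let b : pt r ⟶ pt p₂ := baseHom (p := r) (q := p₂.map f) β
  have hα : 𝒴.p.IsHomLift a α := baseHom_isHomLift (p := r) (q := p₁.map f) α
  have hβ : 𝒴.p.IsHomLift b β := baseHom_isHomLift (p := r) (q := p₂.map f) β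
  obtain ⟨x₁, φ₁, hφ₁⟩ := exists_lift_fpt h𝒳 p₁ a
  obtain ⟨x₂, φ₂, hφ₂⟩ := exists_lift_fpt h𝒳 p₂ b
  have hx₁ : 𝒳.p.obj x₁ = pt r := IsHomLift.domain_eq 𝒳.p a φ₁
  have h1 : 𝒴.p.IsHomLift a (f.map φ₁) := inferInstance
  have h2 : 𝒴.p.IsHomLift b (f.map φ₂) := inferInstance
  obtain ⟨χ₁, hχ₁, -, hχ₁i⟩ := exists_iso_of_lifts h𝒴 a α (f.map φ₁)
  obtain ⟨χ₂, hχ₂, -, hχ₂i⟩ := exists_iso_of_lifts h𝒴 b β (f.map φ₂)
  have hinv : 𝒴.p.IsHomLift (𝟙 (pt r)) (inv χ₂) := inferInstance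
  have hbb : 𝒴.p.IsHomLift (𝟙 (pt r)) (χ₁ ≫ inv χ₂) := by
    have : 𝒴.p.IsHomLift (𝟙 (pt r) ≫ 𝟙 (pt r)) (χ₁ ≫ inv χ₂) := inferInstance
    simpa using this
  have h3 := (locSurjHom_iff _ h𝒳 f).1 hf x₁ x₂ (χ₁ ≫ inv χ₂) (pt r) hx₁ hbb
  obtain ⟨L, _, s, k, x₀, φ, ψ, hφ, hψ, -⟩ := exists_field_arrow_of_mem_J _ h3
  have hx₀ : 𝒳.p.obj x₀ = Over.mk s := IsHomLift.domain_eq 𝒳.p k φ
  let r' : FPt 𝒳 := { K := L, str := s, obj := x₀, lies := hx₀ }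
  exact Points.sound ⟨r', φ ≫ φ₁, ψ ≫ φ₂, trivial⟩

/-- chart form of a local lift. -/
theorem exists_chart_lift (h𝒳 : IsFibGrpd 𝒳.p) (h𝒴 : IsFibGrpd 𝒴.p) (f : 𝒳 ⥤ᵇ 𝒴) {U V : Over S}
    (y : overCat U ⥤ᵇ 𝒴) (c : V ⟶ U) (x : 𝒳.obj) (m : f.obj x ⟶ y.obj (Over.mk (𝟙 U)))
    (hm : 𝒴.p.IsHomLift c m) :
    ∃ x' : overCat V ⥤ᵇ 𝒳, Nonempty (BasedFunctor.comp x' f ≅ BasedFunctor.comp (overMap c) y) := by
  have hx : 𝒳.p.obj x = V := by
    rw [← f.w_obj]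
    exact IsHomLift.domain_eq 𝒴.p c m
  obtain ⟨G, θ, hθ⟩ := exists_chart_of_obj h𝒳 x hx
  refine ⟨G, ?_⟩
  let n : (Over.mk (𝟙 V ≫ c) : Over U) ⟶ Over.mk (𝟙 U) := Over.homMk c (by simp)
  have hn : (overCat U).p.IsHomLift c n :=
    IsHomLift.of_fac (overCat U).p c n rfl rfl (by simp [n]; rfl)
  have hyn : 𝒴.p.IsHomLift c (y.map n) := inferInstance
  have hfθ : 𝒴.p.IsHomLift (𝟙 V) (f.map θ.hom) := inferInstance
  have ha₁ : 𝒴.p.IsHomLift c (f.map θ.hom ≫ m) := by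
    have : 𝒴.p.IsHomLift (𝟙 V ≫ c) (f.map θ.hom ≫ m) := inferInstance
    simpa using this
  obtain ⟨χ, hχ, -, hχi⟩ := exists_iso_of_lifts h𝒴 c (y.map n) (f.map θ.hom ≫ m)
  have := Groth.Agent.S6409.result h𝒴 V
  let G₁ : overCat V ⥤ᵇ 𝒴 := BasedFunctor.comp G f
  let G₂ : overCat V ⥤ᵇ 𝒴 := BasedFunctor.comp (overMap c) y
  have hχinv : 𝒴.p.IsHomLift (𝟙 V) (inv χ) := inferInstance
  let e : (evalAtId 𝒴 V).obj G₁ ≅ (evalAtId 𝒴 V).obj G₂ :=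
    { hom := ⟨χ, hχ⟩
      inv := ⟨inv χ, hχinv⟩
      hom_inv_id := by
        apply Functor.Fiber.hom_ext
        exact IsIso.hom_inv_id χ
      inv_hom_id := by
        apply Functor.Fiber.hom_ext
        exact IsIso.inv_hom_id χ }
  exact ⟨(evalAtId 𝒴 V).preimageIso e⟩

theorem isOpenMap_map_of_isGerbeOver (h𝒳 : IsAlgStack Scheme.fppfPrecoverage 𝒳)
    (h𝒴 : IsAlgStack Scheme.fppfPrecoverage 𝒴) (f : 𝒳 ⥤ᵇ 𝒴)
    (hf : IsGerbeOver (QuotSh.J Scheme.fppfPrecoverage S) f) : IsOpenMap (Points.map f) := by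
  have hinj := injective_map_of_locSurjHom h𝒳.isStack.1 h𝒴.isStack.1 f hf.2
  intro O hO
  rw [Points.isOpen_iff]
  intro V y _
  have h1 := (locSurjObj_iff _ h𝒳.isStack.1 f).1 hf.1 (y.obj (Over.mk (𝟙 V))) V (y.w_obj _)
  obtain ⟨T', c, hRc, hflat, hlfp, hsurj⟩ := Groth.Agent.Helper15.Bridge.exists_family_of_mem_J _ h1
  have hx' : ∀ t, ∃ x' : overCat (T' t) ⥤ᵇ 𝒳,
      Nonempty (BasedFunctor.comp x' f ≅ BasedFunctor.comp (overMap (c t)) y) := by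
    intro t
    obtain ⟨x, m, hm⟩ := hRc t
    exact exists_chart_lift h𝒳.isStack.1 h𝒴.isStack.1 f y (c t) x m hm
  choose x' hx'e using hx'
  have key : ∀ t (v' : ↥(T' t).left),
      Points.map f (Points.ofChart (x' t) v') = Points.ofChart y ((c t).left v') := by
    intro t v'
    obtain ⟨e⟩ := hx'e t
    rw [map_ofChart, congrFun (ofChart_congr e) v', ofChart_overMap]
  have hset : Points.ofChart y ⁻¹' (Points.map f '' O) =
      ⋃ t, (c t).left '' (Points.ofChart (x' t) ⁻¹' O) := by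
    ext v
    simp only [Set.mem_preimage, Set.mem_image, Set.mem_iUnion]
    constructor
    · rintro ⟨o, ho, hov⟩
      obtain ⟨t, v', hv'⟩ := hsurj v
      refine ⟨t, v', ?_, hv'⟩
      have : Points.map f (Points.ofChart (x' t) v') = Points.map f o := by
        rw [key, hv', hov]
      rw [hinj this]
      exact ho
    · rintro ⟨t, v', hv'O, rfl⟩
      exact ⟨_, hv'O, key t v'⟩
  rw [hset]
  refine isOpen_iUnion (fun t => ?_)
  have : Flat (c t).left := hflat t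
  have : LocallyOfFinitePresentation (c t).left := hlfp t
  exact (c t).left.isOpenMap _ (hO.preimage (continuous_ofChart h𝒳 (x' t)))

theorem isHomeomorph_map_of_isGerbeOver (h𝒳 : IsAlgStack Scheme.fppfPrecoverage 𝒳)
    (h𝒴 : IsAlgStack Scheme.fppfPrecoverage 𝒴) (f : 𝒳 ⥤ᵇ 𝒴)
    (hf : IsGerbeOver (QuotSh.J Scheme.fppfPrecoverage S) f) : IsHomeomorph (Points.map f) :=
  ⟨continuous_points_map h𝒴 f, isOpenMap_map_of_isGerbeOver h𝒳 h𝒴 f hf,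
    injective_map_of_locSurjHom h𝒳.isStack.1 h𝒴.isStack.1 f hf.2,
    surjective_map_of_locSurjObj h𝒳.isStack.1 f hf.1⟩

/-- S16869. -/
theorem isUnivHomeo_of_isGerbeOver (h𝒳 : IsAlgStack Scheme.fppfPrecoverage 𝒳)
    (h𝒴 : IsAlgStack Scheme.fppfPrecoverage 𝒴) (f : 𝒳 ⥤ᵇ 𝒴)
    (hf : IsGerbeOver (QuotSh.J Scheme.fppfPrecoverage S) f) :
    IsUnivHomeo Scheme.fppfPrecoverage f := by
  intro 𝒵 h𝒵 g
  have hfp : IsAlgStack Scheme.fppfPrecoverage (fp g f) :=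
    Groth.Agent.Helper19.ProdAlg.isAlgStack_fp h𝒴.isStack h𝒴.diag h𝒵 h𝒳 g f
  exact isHomeomorph_map_of_isGerbeOver hfp h𝒵 (fpFst g f)
    (isGerbeOver_fpFst _ h𝒳.isStack.1 h𝒴.isStack.1 h𝒵.isStack.1 f g hf)

end Groth.Agent.Helper19.GerbD
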