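import Mathlib
import Groth.Prelude.Def_StCoarse
import Groth.Agent.Lib.Helper19.GerbD.Homeo
import Groth.Agent.Lib.Helper19.IsoNatLib

/-!
# Coarse moduli spaces and gerbes (helper19)
-/

set_option autoImplicit false
set_option backward.isDefEq.respectTransparency false

universe u

open CategoryTheory CategoryTheory.Limits AlgebraicGeometry Opposite

namespace Groth.Agent.Helper19.GerbD

open FibCat AlgSt Gerb Groth.Agent.Helper19.FibLib Groth.Agent.Helper19.StPts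
  Groth.Agent.Helper19.IsoNatLib

variable {S : Scheme.{u}} {𝒳 𝒴 : AlgSt.Cat S}

/-- a covering sieve of the spectrum of an algebraically closed field contains the identity. -/
theorem id_mem_of_mem_J_of_isAlgClosed (Ω : Type u) [Field Ω] [IsAlgClosed Ω]
    (t : Spec (CommRingCat.of Ω) ⟶ S) (R : Sieve (Over.mk t))
    (hR : R ∈ (QuotSh.J Scheme.fppfPrecoverage S) (Over.mk t)) : R (𝟙 (Over.mk t)) := by
  obtain ⟨T', c, hRc, -, hlfp, hsurj⟩ := Groth.Agent.Helper15.Bridge.exists_family_of_mem_J R hR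
  obtain ⟨i, v, -⟩ := hsurj (IsLocalRing.closedPoint Ω)
  have hlfp' : LocallyOfFinitePresentation (c i).left := hlfp i
  let f₀ : (T' i).left ⟶ Spec (CommRingCat.of Ω) := (c i).left
  have hft : LocallyOfFiniteType f₀ := inferInstanceAs (LocallyOfFiniteType (c i).left)
  have hJ : JacobsonSpace ↥(T' i).left := LocallyOfFiniteType.jacobsonSpace f₀
  have hne : (closedPoints ↥(T' i).left).Nonempty := by
    by_contra hemp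
    rw [Set.not_nonempty_iff_eq_empty] at hemp
    have h1 := closure_closedPoints (X := ↥(T' i).left)
    rw [hemp, closure_empty] at h1
    have h2 : v ∈ (Set.univ : Set ↥(T' i).left) := Set.mem_univ v
    rw [← h1] at h2
    exact h2
  obtain ⟨x, hx⟩ := hne
  let p : Spec (CommRingCat.of Ω) ⟶ (T' i).left := pointOfClosedPoint f₀ x hx
  have hp : p ≫ f₀ = 𝟙 _ := pointOfClosedPoint_comp f₀ x hx
  have hw : (T' i).hom = f₀ ≫ t := (Over.w (c i)).symm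
  let k : Over.mk t ⟶ T' i := Over.homMk p (by
    change p ≫ (T' i).hom = t
    rw [hw, ← Category.assoc, hp, Category.id_comp])
  have hk : k ≫ c i = 𝟙 (Over.mk t) := by
    ext
    exact hp
  rw [← hk]
  exact R.downward_closed (hRc i) k

/-- core: a morphism of `ofPsh P` whose underlying morphism is an `eqToHom` identifies the sections. -/
theorem sec_eq_of_hom_eqToHom {M : AlgSp.Sp S} {T : Over S} (a b : (ofSp M).obj) (ha : a.base = T)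
    (hb : b.base = T) (m : a ⟶ b) (hm : m.hom = eqToHom (ha.trans hb.symm)) :
    M.obj.map (eqToHom ha.symm).op a.sec = M.obj.map (eqToHom hb.symm).op b.sec := by
  obtain ⟨Ta, sa⟩ := a
  obtain ⟨Tb, sb⟩ := b
  dsimp only at ha hb
  subst ha
  subst hb
  have h1 := m.map_sec
  rw [hm] at h1
  simpa using h1.symm

theorem hom_eq_eqToHom_of_isHomLift {M : AlgSp.Sp S} {T : Over S} (a b : (ofSp M).obj) (ha : a.base = T)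
    (hb : b.base = T) (m : a ⟶ b) (hm : (ofSp M).p.IsHomLift (𝟙 T) m) :
    m.hom = eqToHom (ha.trans hb.symm) := by
  have h1 := IsHomLift.fac' (ofSp M).p (𝟙 T) m
  have h2 : (ofSp M).p.map m = m.hom := rfl
  rw [h2] at h1
  rw [h1]
  simp

/-- the section of an object only depends on its isomorphism class in the fibre. -/
theorem fibSec_eq_of_hom {M : AlgSp.Sp S} (π : 𝒳 ⥤ᵇ ofSp M) {T : Over S} (x x' : 𝒳.p.Fiber T)
    (a : x.1 ⟶ x'.1) (ha : 𝒳.p.IsHomLift (𝟙 T) a) : fibSec π x = fibSec π x' := by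
  have h1 : (ofSp M).p.IsHomLift (𝟙 T) (π.map a) := BasedFunctor.preserves_isHomLift π (𝟙 T) a
  exact sec_eq_of_hom_eqToHom _ _ ((π.w_obj x.1).trans x.2) ((π.w_obj x'.1).trans x'.2) (π.map a)
    (hom_eq_eqToHom_of_isHomLift _ _ ((π.w_obj x.1).trans x.2) ((π.w_obj x'.1).trans x'.2) _ h1)

theorem fibSec_eq_of_iso {M : AlgSp.Sp S} (π : 𝒳 ⥤ᵇ ofSp M) {T : Over S} (x x' : 𝒳.p.Fiber T)
    (e : x ≅ x') : fibSec π x = fibSec π x' :=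
  fibSec_eq_of_hom π x x' e.hom.1 e.hom.2

/-- 2-isomorphic functors to a sheaf have the same sections. -/
theorem fibSec_congr {M : AlgSp.Sp S} {π π' : 𝒳 ⥤ᵇ ofSp M} (θ : π ≅ π') {T : Over S}
    (x : 𝒳.p.Fiber T) : fibSec π x = fibSec π' x := by
  have h1 : (ofSp M).p.IsHomLift (𝟙 T) (θ.hom.toNatTrans.app x.1) :=
    BasedNatTrans.isHomLift θ.hom x.2
  exact sec_eq_of_hom_eqToHom _ _ ((π.w_obj x.1).trans x.2) ((π'.w_obj x.1).trans x.2)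
    (θ.hom.toNatTrans.app x.1) (hom_eq_eqToHom_of_isHomLift _ _ ((π.w_obj x.1).trans x.2)
      ((π'.w_obj x.1).trans x.2) _ h1)

/-- the image of an object of a fibre. -/
abbrev fibImg (F : 𝒳 ⥤ᵇ 𝒴) {T : Over S} (x : 𝒳.p.Fiber T) : 𝒴.p.Fiber T :=
  ⟨F.obj x.1, (F.w_obj x.1).trans x.2⟩

theorem fibSec_comp {M : AlgSp.Sp S} (F : 𝒳 ⥤ᵇ 𝒴) (π : 𝒴 ⥤ᵇ ofSp M) {T : Over S}
    (x : 𝒳.p.Fiber T) : fibSec (BasedFunctor.comp F π) x = fibSec π (fibImg F x) := rfl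

section main

variable (h𝒳 : IsFibGrpd 𝒳.p) (h𝒴 : IsFibGrpd 𝒴.p) (F : 𝒳 ⥤ᵇ 𝒴)
  (hF : IsGerbeOver (QuotSh.J Scheme.fppfPrecoverage S) F)

include h𝒳 h𝒴 hF in
theorem exists_fib_lift (Ω : Type u) [Field Ω] [IsAlgClosed Ω] (t : Spec (CommRingCat.of Ω) ⟶ S)
    (y : 𝒴.p.Fiber (Over.mk t)) : ∃ x : 𝒳.p.Fiber (Over.mk t), Nonempty (fibImg F x ≅ y) := by
  have h1 := (locSurjObj_iff _ h𝒳 F).1 hF.1 y.1 (Over.mk t) y.2
  obtain ⟨x, m, hm⟩ := id_mem_of_mem_J_of_isAlgClosed Ω t _ h1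
  have hx : 𝒳.p.obj x = Over.mk t := by
    rw [← F.w_obj]
    exact IsHomLift.domain_eq 𝒴.p (𝟙 _) m
  refine ⟨⟨x, hx⟩, ?_⟩
  exact (cls_eq_iff _ _).1 (cls_eq_of_hom h𝒴 (fibImg F ⟨x, hx⟩) y m hm)

include h𝒳 hF in
theorem nonempty_iso_of_fibImg_iso (Ω : Type u) [Field Ω] [IsAlgClosed Ω]
    (t : Spec (CommRingCat.of Ω) ⟶ S) (x x' : 𝒳.p.Fiber (Over.mk t))
    (e : fibImg F x ≅ fibImg F x') : Nonempty (x ≅ x') := by
  have hb : 𝒴.p.IsHomLift (𝟙 (Over.mk t)) e.hom.1 := e.hom.2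
  have h1 := (locSurjHom_iff _ h𝒳 F).1 hF.2 x.1 x'.1 e.hom.1 (Over.mk t) x.2 hb
  obtain ⟨x₀, φ, ψ, hφ, hψ, -⟩ := id_mem_of_mem_J_of_isAlgClosed Ω t _ h1
  have hx₀ : 𝒳.p.obj x₀ = Over.mk t := IsHomLift.domain_eq 𝒳.p (𝟙 _) φ
  have c1 : IsoNat.cls (⟨x₀, hx₀⟩ : 𝒳.p.Fiber (Over.mk t)) = IsoNat.cls x :=
    cls_eq_of_hom h𝒳 _ _ φ hφ
  have c2 : IsoNat.cls (⟨x₀, hx₀⟩ : 𝒳.p.Fiber (Over.mk t)) = IsoNat.cls x' :=
    cls_eq_of_hom h𝒳 _ _ ψ hψ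
  exact (cls_eq_iff _ _).1 (c1.symm.trans c2)

include h𝒳 h𝒴 hF in
theorem geomPtBij_comp {M : AlgSp.Sp S} (π : 𝒴 ⥤ᵇ ofSp M) (h : GeomPtBij π) :
    GeomPtBij (BasedFunctor.comp F π) := by
  intro Ω _ _ t
  obtain ⟨h1, h2⟩ := h Ω t
  constructor
  · intro m
    obtain ⟨y, hy⟩ := h1 m
    obtain ⟨x, ⟨e⟩⟩ := exists_fib_lift h𝒳 h𝒴 F hF Ω t y
    exact ⟨x, by rw [fibSec_comp, fibSec_eq_of_iso π _ _ e, hy]⟩
  · intro x x' hxx'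
    rw [fibSec_comp, fibSec_comp] at hxx'
    obtain ⟨e⟩ := h2 _ _ hxx'
    exact nonempty_iso_of_fibImg_iso h𝒳 F hF Ω t x x' e

include h𝒳 h𝒴 hF in
theorem geomPtBij_of_comp {M : AlgSp.Sp S} (ψ : 𝒴 ⥤ᵇ ofSp M)
    (h : GeomPtBij (BasedFunctor.comp F ψ)) : GeomPtBij ψ := by
  intro Ω _ _ t
  obtain ⟨h1, h2⟩ := h Ω t
  constructor
  · intro m
    obtain ⟨x, hx⟩ := h1 m
    exact ⟨fibImg F x, by rw [← fibSec_comp]; exact hx⟩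
  · intro y y' hyy'
    obtain ⟨x, ⟨e⟩⟩ := exists_fib_lift h𝒳 h𝒴 F hF Ω t y
    obtain ⟨x', ⟨e'⟩⟩ := exists_fib_lift h𝒳 h𝒴 F hF Ω t y'
    have h3 : fibSec (BasedFunctor.comp F ψ) x = fibSec (BasedFunctor.comp F ψ) x' := by
      rw [fibSec_comp, fibSec_comp, fibSec_eq_of_iso ψ _ _ e, fibSec_eq_of_iso ψ _ _ e', hyy']
    obtain ⟨ε⟩ := h2 x x' h3
    have e4 : fibImg F x ≅ fibImg F x' := (IsoNat.fibFun F (Over.mk t)).mapIso ε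
    exact ⟨e.symm ≪≫ e4 ≪≫ e'⟩

theorem geomPtBij_of_iso {M : AlgSp.Sp S} {π π' : 𝒳 ⥤ᵇ ofSp M} (θ : π ≅ π') (h : GeomPtBij π) :
    GeomPtBij π' := by
  intro Ω _ _ t
  obtain ⟨h1, h2⟩ := h Ω t
  constructor
  · intro m
    obtain ⟨x, hx⟩ := h1 m
    exact ⟨x, by rw [← fibSec_congr θ]; exact hx⟩
  · intro x x' hxx'
    rw [← fibSec_congr θ, ← fibSec_congr θ] at hxx'
    exact h2 x x' hxx'

theorem isCatModuli_of_iso {M : AlgSp.Sp S} {π π' : 𝒳 ⥤ᵇ ofSp M} (θ : π ≅ π') (h : IsCatModuli π) :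
    IsCatModuli π' := by
  refine ⟨h.1, fun N hN φ => ?_⟩
  obtain ⟨g, ⟨θg⟩, huniq⟩ := h.2 N hN φ
  refine ⟨g, ⟨(whiskerRightIso θ (ofSpMap g)).symm ≪≫ θg⟩, ?_⟩
  rintro g' ⟨θ'⟩
  exact huniq g' ⟨whiskerRightIso θ (ofSpMap g') ≪≫ θ'⟩

variable (huniv : ∀ (N : AlgSp.Sp S), AlgSp.IsAlgSpace N → ∀ φ : 𝒳 ⥤ᵇ ofSp N,
      ∃ ψ : 𝒴 ⥤ᵇ ofSp N, Nonempty (BasedFunctor.comp F ψ ≅ φ) ∧
        ∀ ψ' : 𝒴 ⥤ᵇ ofSp N, Nonempty (BasedFunctor.comp F ψ' ≅ φ) → Nonempty (ψ' ≅ ψ))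

include huniv in
theorem isCatModuli_comp {M : AlgSp.Sp S} (π : 𝒴 ⥤ᵇ ofSp M) (h : IsCatModuli π) :
    IsCatModuli (BasedFunctor.comp F π) := by
  refine ⟨h.1, fun N hN φ => ?_⟩
  obtain ⟨ψ, ⟨θ⟩, hψu⟩ := huniv N hN φ
  obtain ⟨g, ⟨θg⟩, huniq⟩ := h.2 N hN ψ
  refine ⟨g, ⟨whiskerLeftIso F θg ≪≫ θ⟩, ?_⟩
  rintro g' ⟨θ'⟩
  have θ'' : BasedFunctor.comp F (BasedFunctor.comp π (ofSpMap g')) ≅ φ := θ'
  obtain ⟨η⟩ := hψu (BasedFunctor.comp π (ofSpMap g')) ⟨θ''⟩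
  exact huniq g' ⟨η⟩

include huniv in
theorem isCatModuli_of_comp {M : AlgSp.Sp S} (ψ : 𝒴 ⥤ᵇ ofSp M)
    (h : IsCatModuli (BasedFunctor.comp F ψ)) : IsCatModuli ψ := by
  refine ⟨h.1, fun N hN φ => ?_⟩
  obtain ⟨g, ⟨θg⟩, huniq⟩ := h.2 N hN (BasedFunctor.comp F φ)
  obtain ⟨ψ₀, -, hψ₀⟩ := huniv N hN (BasedFunctor.comp F φ)
  obtain ⟨a⟩ := hψ₀ φ ⟨Iso.refl _⟩
  have θg' : BasedFunctor.comp F (BasedFunctor.comp ψ (ofSpMap g)) ≅ BasedFunctor.comp F φ := θg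
  obtain ⟨b⟩ := hψ₀ (BasedFunctor.comp ψ (ofSpMap g)) ⟨θg'⟩
  refine ⟨g, ⟨b ≪≫ a.symm⟩, ?_⟩
  rintro g' ⟨θ'⟩
  have θ'' : BasedFunctor.comp (BasedFunctor.comp F ψ) (ofSpMap g') ≅ BasedFunctor.comp F φ :=
    whiskerLeftIso F θ'
  exact huniq g' ⟨θ''⟩

include h𝒳 h𝒴 hF huniv in
/-- S18876. -/
theorem coarse_transfer :
    ((∃ (M : AlgSp.Sp S) (π : 𝒴 ⥤ᵇ ofSp M), IsCoarseModuli π) ↔
        ∃ (M : AlgSp.Sp S) (π : 𝒳 ⥤ᵇ ofSp M), IsCoarseModuli π) ∧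
      ∀ (M : AlgSp.Sp S) (π : 𝒴 ⥤ᵇ ofSp M), IsCoarseModuli π →
        IsCoarseModuli (BasedFunctor.comp F π) := by
  have hB : ∀ (M : AlgSp.Sp S) (π : 𝒴 ⥤ᵇ ofSp M), IsCoarseModuli π →
      IsCoarseModuli (BasedFunctor.comp F π) := fun M π hπ =>
    ⟨isCatModuli_comp F huniv π hπ.1, geomPtBij_comp h𝒳 h𝒴 F hF π hπ.2⟩
  refine ⟨⟨?_, ?_⟩, hB⟩
  · rintro ⟨M, π, hπ⟩
    exact ⟨M, BasedFunctor.comp F π, hB M π hπ⟩
  · rintro ⟨M, π', hπ'⟩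
    obtain ⟨ψ, ⟨θ⟩, -⟩ := huniv M hπ'.1.1 π'
    have h1 : IsCatModuli (BasedFunctor.comp F ψ) := isCatModuli_of_iso θ.symm hπ'.1
    have h2 : GeomPtBij (BasedFunctor.comp F ψ) := geomPtBij_of_iso θ.symm hπ'.2
    exact ⟨M, ψ, isCatModuli_of_comp F huniv ψ h1, geomPtBij_of_comp h𝒳 h𝒴 F hF ψ h2⟩

end main

end Groth.Agent.Helper19.GerbD
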