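import Mathlib
import Groth.Agent.Lib.Helper19.GerbD.Sieves
import Groth.Agent.Lib.Helper19.YonLib
import Groth.Agent.S13022
import Groth.Agent.S6401

/-!
# fppf-local lifting of objects along a surjective flat locally finitely presented morphism (helper19)
-/

set_option autoImplicit false
set_option backward.isDefEq.respectTransparency false

universe u

open CategoryTheory CategoryTheory.Limits AlgebraicGeometry

namespace Groth.Agent.Helper19.GerbD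

open FibCat AlgSt Gerb Groth.Agent.Helper19.FibLib Groth.Agent.Helper19.YonLib

variable {S : Scheme.{u}} {𝒳 𝒴 𝒴' : AlgSt.Cat S}

/-- fppf-local lifting of an object. -/
theorem exists_cover_lift (h𝒴 : IsAlgStack Scheme.fppfPrecoverage 𝒴)
    (h𝒴' : IsAlgStack Scheme.fppfPrecoverage 𝒴') (g : 𝒴' ⥤ᵇ 𝒴) (hg₁ : IsSurjective g)
    (hg₂ : LocQ (AlgSp.LocP @Flat) g) (hg₃ : LocQ (AlgSp.LocP @LocallyOfFinitePresentation) g)
    (y : 𝒴.obj) (U : Over S) (hy : 𝒴.p.obj y = U) :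
    ∃ (ι : Type u) (V : ι → Over S) (c : ∀ i, V i ⟶ U),
      Sieve.ofArrows V c ∈ (QuotSh.J Scheme.fppfPrecoverage S) U ∧
      ∀ i, ∃ (y' : 𝒴'.obj) (μ : g.obj y' ⟶ y), 𝒴.p.IsHomLift (c i) μ := by
  obtain ⟨G, θ, hθ⟩ := exists_chart_of_obj h𝒴.isStack.1 y hy
  obtain ⟨ι, V, c, -, hcov, hx'⟩ := Groth.Agent.S13022.result S 𝒴 h𝒴 PUnit.{u + 1} (fun _ => 𝒴')
    (fun _ => h𝒴') (fun _ => g) (fun _ => hg₂) (fun _ => hg₃)
    (fun p => ⟨PUnit.unit, hg₁ p⟩) U G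
  refine ⟨ι, V, c, ?_, fun i => ?_⟩
  · rw [GrothendieckTopology.mem_over_iff, Sieve.overEquiv_ofArrows]
    exact Precoverage.generate_mem_toGrothendieck hcov
  · obtain ⟨x', ⟨e⟩⟩ := hx' i
    let m : (Over.mk (𝟙 (V i) ≫ c i) : Over U) ⟶ Over.mk (𝟙 U) := Over.homMk (c i) (by simp)
    have hm : (overCat U).p.IsHomLift (c i) m :=
      IsHomLift.of_fac (overCat U).p (c i) m rfl rfl (by simp [m]; rfl)
    have hGm : 𝒴.p.IsHomLift (c i) (G.map m) := inferInstance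
    have he : 𝒴.p.IsHomLift (𝟙 (V i)) (e.hom.toNatTrans.app (Over.mk (𝟙 (V i)))) :=
      inferInstanceAs (𝒴.p.IsHomLift (𝟙 ((overCat (V i)).p.obj (Over.mk (𝟙 (V i)))))
        (e.hom.toNatTrans.app (Over.mk (𝟙 (V i)))))
    refine ⟨x'.obj (Over.mk (𝟙 (V i))), e.hom.toNatTrans.app (Over.mk (𝟙 (V i))) ≫ G.map m ≫ θ.hom, ?_⟩
    have h3 : 𝒴.p.IsHomLift (𝟙 (V i) ≫ c i ≫ 𝟙 U)
        (e.hom.toNatTrans.app (Over.mk (𝟙 (V i))) ≫ G.map m ≫ θ.hom) := inferInstance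
    simpa using h3

end Groth.Agent.Helper19.GerbD
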