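import Mathlib
import Groth.Agent.Lib.Helper19.GerbD.BaseChange
import Groth.Agent.Lib.Helper19.FibLib3

/-!
# The product of two gerbes is a gerbe (helper19)
-/

set_option autoImplicit false
set_option backward.isDefEq.respectTransparency false

universe u

open CategoryTheory CategoryTheory.Limits AlgebraicGeometry

namespace Groth.Agent.Helper19.GerbD

open FibCat AlgSt Gerb Groth.Agent.Helper19.FibLib Groth.Agent.Helper19.StPts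

variable {S : Scheme.{u}} {𝒳 𝒴 𝒵 𝒯 : AlgSt.Cat S} (J : GrothendieckTopology (Over S))

theorem locSurjObj_cmpProd (h𝒳 : IsFibGrpd 𝒳.p) (h𝒴 : IsFibGrpd 𝒴.p) (h𝒵 : IsFibGrpd 𝒵.p)
    (h𝒯 : IsFibGrpd 𝒯.p) (f : 𝒳 ⥤ᵇ 𝒵) (g : 𝒴 ⥤ᵇ 𝒵) (t : 𝒵 ⥤ᵇ 𝒯)
    (hf : LocSurjObj J f) (hg : LocSurjObj J g) : LocSurjObj J (cmpProd f g t) := by
  have hfp : IsFibGrpd (fp (BasedFunctor.comp f t) (BasedFunctor.comp g t)).p :=
    Groth.Agent.S6401.result _ _ h𝒳 h𝒴 h𝒯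
  rw [locSurjObj_iff J hfp]
  intro w U hw
  have hz₁ : 𝒵.p.obj w.obj.fst = U := hw
  have hι : 𝒯.p.IsHomLift (𝟙 U) w.obj.iso.hom := by
    have h0 : 𝒯.p.IsHomLift (𝟙 (𝒵.p.obj w.obj.fst)) w.obj.iso.hom := w.property
    rw [hz₁] at h0
    exact h0
  have hz₂ : 𝒵.p.obj w.obj.snd = U := by
    rw [← t.w_obj]
    exact IsHomLift.codomain_eq 𝒯.p (𝟙 U) w.obj.iso.hom
  have h1 := (locSurjObj_iff J h𝒳 f).1 hf w.obj.fst U hz₁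
  have h2 := (locSurjObj_iff J h𝒴 g).1 hg w.obj.snd U hz₂
  refine J.superset_covering ?_ (J.intersection_covering h1 h2)
  rintro V c ⟨⟨x, m, hm⟩, ⟨y, n, hn⟩⟩
  have htm : 𝒯.p.IsHomLift c (t.map m) := inferInstance
  have htn : 𝒯.p.IsHomLift c (t.map n) := inferInstance
  have htmι : 𝒯.p.IsHomLift c (t.map m ≫ w.obj.iso.hom) := by
    have : 𝒯.p.IsHomLift (c ≫ 𝟙 U) (t.map m ≫ w.obj.iso.hom) := inferInstance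
    simpa using this
  obtain ⟨κ, hκ, hκc, hκi⟩ := exists_iso_of_lifts h𝒯 c (t.map n) (t.map m ≫ w.obj.iso.hom)
  have hxV : 𝒳.p.obj x = V := by
    rw [← f.w_obj]
    exact IsHomLift.domain_eq 𝒵.p c m
  have hκ' : 𝒯.p.IsHomLift (𝟙 (𝒳.p.obj x)) (asIso κ).hom := by
    rw [hxV]
    exact hκ
  let a : (fp (BasedFunctor.comp f t) (BasedFunctor.comp g t)).obj :=
    ⟨{ fst := x, snd := y, iso := asIso κ }, hκ'⟩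
  have e1 : t.map m ≫ w.obj.iso.hom = ((cmpProd f g t).obj a).obj.iso.hom ≫ t.map n := by
    rw [cmpProd_obj_iso_hom]
    exact hκc.symm
  refine ⟨a, fpHomMk m n e1, ?_⟩
  exact (fp_isHomLift_iff _ _).2 hm

theorem locSurjHom_cmpProd (h𝒳 : IsFibGrpd 𝒳.p) (h𝒴 : IsFibGrpd 𝒴.p) (h𝒵 : IsFibGrpd 𝒵.p)
    (h𝒯 : IsFibGrpd 𝒯.p) (f : 𝒳 ⥤ᵇ 𝒵) (g : 𝒴 ⥤ᵇ 𝒵) (t : 𝒵 ⥤ᵇ 𝒯)
    (hf : LocSurjHom J f) (hg : LocSurjHom J g) : LocSurjHom J (cmpProd f g t) := by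
  have hfp : IsFibGrpd (fp (BasedFunctor.comp f t) (BasedFunctor.comp g t)).p :=
    Groth.Agent.S6401.result _ _ h𝒳 h𝒴 h𝒯
  rw [locSurjHom_iff J hfp]
  intro a a' b U ha hb
  have hxU : 𝒳.p.obj a.obj.fst = U := ha
  have hb₁ : 𝒵.p.IsHomLift (𝟙 U) b.hom.fst := (fp_isHomLift_iff _ _).1 hb
  have hικ : 𝒯.p.IsHomLift (𝟙 U) a.obj.iso.hom := by
    have h0 : 𝒯.p.IsHomLift (𝟙 (𝒳.p.obj a.obj.fst)) a.obj.iso.hom := a.property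
    rw [hxU] at h0
    exact h0
  have hyU : 𝒴.p.obj a.obj.snd = U := by
    have h1 : 𝒯.p.obj ((BasedFunctor.comp g t).obj a.obj.snd) = U :=
      IsHomLift.codomain_eq 𝒯.p (𝟙 U) a.obj.iso.hom
    rw [← h1]
    exact ((BasedFunctor.comp g t).w_obj a.obj.snd).symm
  have hb₂ : 𝒵.p.IsHomLift (𝟙 U) b.hom.snd :=
    (inferInstance : 𝒵.p.IsHomLift (𝟙 U) ((fpSnd t t).map b))
  have h1 := (locSurjHom_iff J h𝒳 f).1 hf a.obj.fst a'.obj.fst b.hom.fst U hxU hb₁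
  have h2 := (locSurjHom_iff J h𝒴 g).1 hg a.obj.snd a'.obj.snd b.hom.snd U hyU hb₂
  refine J.superset_covering ?_ (J.intersection_covering h1 h2)
  rintro V c ⟨⟨x₀, φ, ψ, hφ, hψ, hφψ⟩, ⟨y₀, φ', ψ', hφ', hψ', hφψ'⟩⟩
  have h5 : 𝒯.p.IsHomLift c (t.map (g.map φ')) := inferInstance
  have h6 : 𝒯.p.IsHomLift c (t.map (f.map φ) ≫ a.obj.iso.hom) := by
    have h7 : 𝒯.p.IsHomLift c (t.map (f.map φ)) := inferInstance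
    have : 𝒯.p.IsHomLift (c ≫ 𝟙 U) (t.map (f.map φ) ≫ a.obj.iso.hom) := inferInstance
    simpa using this
  obtain ⟨κ₀, hκ₀, hκ₀c, hκ₀i⟩ := exists_iso_of_lifts h𝒯 c (t.map (g.map φ'))
    (t.map (f.map φ) ≫ a.obj.iso.hom)
  have hx₀V : 𝒳.p.obj x₀ = V := IsHomLift.domain_eq 𝒳.p c φ
  have hκ₀' : 𝒯.p.IsHomLift (𝟙 (𝒳.p.obj x₀)) (asIso κ₀).hom := by
    rw [hx₀V]
    exact hκ₀
  let a₀ : (fp (BasedFunctor.comp f t) (BasedFunctor.comp g t)).obj :=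
    ⟨{ fst := x₀, snd := y₀, iso := asIso κ₀ }, hκ₀'⟩
  have e1 : (BasedFunctor.comp f t).map φ ≫ a.obj.iso.hom =
      a₀.obj.iso.hom ≫ (BasedFunctor.comp g t).map φ' := hκ₀c.symm
  have hbw : t.map b.hom.fst ≫ a'.obj.iso.hom = a.obj.iso.hom ≫ t.map b.hom.snd := by
    have := b.hom.w
    rw [cmpProd_obj_iso_hom, cmpProd_obj_iso_hom] at this
    exact this
  have e2 : (BasedFunctor.comp f t).map ψ ≫ a'.obj.iso.hom =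
      a₀.obj.iso.hom ≫ (BasedFunctor.comp g t).map ψ' := by
    change t.map (f.map ψ) ≫ a'.obj.iso.hom = κ₀ ≫ t.map (g.map ψ')
    rw [← hφψ, ← hφψ', t.toFunctor.map_comp, t.toFunctor.map_comp, Category.assoc, hbw,
      ← Category.assoc, ← Category.assoc, hκ₀c]
  refine ⟨a₀, fpHomMk φ φ' e1, fpHomMk ψ ψ' e2, (fp_isHomLift_iff _ _).2 hφ,
    (fp_isHomLift_iff _ _).2 hψ, ?_⟩
  exact fp_hom_ext hφψ hφψ'

theorem isGerbeOver_cmpProd (h𝒳 : IsFibGrpd 𝒳.p) (h𝒴 : IsFibGrpd 𝒴.p) (h𝒵 : IsFibGrpd 𝒵.p)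
    (h𝒯 : IsFibGrpd 𝒯.p) (f : 𝒳 ⥤ᵇ 𝒵) (g : 𝒴 ⥤ᵇ 𝒵) (t : 𝒵 ⥤ᵇ 𝒯)
    (hf : IsGerbeOver J f) (hg : IsGerbeOver J g) : IsGerbeOver J (cmpProd f g t) :=
  ⟨locSurjObj_cmpProd J h𝒳 h𝒴 h𝒵 h𝒯 f g t hf.1 hg.1,
    locSurjHom_cmpProd J h𝒳 h𝒴 h𝒵 h𝒯 f g t hf.2 hg.2⟩

end Groth.Agent.Helper19.GerbD
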