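import Mathlib
import Groth.Agent.Lib.Helper19.GerbD.Prod
import Groth.Agent.Lib.Helper19.GerbD.Homeo
import Groth.Agent.Lib.Helper19.QcPts2
import Groth.Agent.Lib.Helper19.DiagComp
import Groth.Agent.Lib.Helper19.StkMore

/-!
# Quasi-compactness of the diagonal descends along a gerbe (helper19)
-/

set_option autoImplicit false
set_option backward.isDefEq.respectTransparency false

universe u

open CategoryTheory CategoryTheory.Limits AlgebraicGeometry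

namespace Groth.Agent.Helper19.GerbD

open FibCat AlgSt Gerb Groth.Agent.Helper19.FibLib Groth.Agent.Helper19.StPts
  Groth.Agent.Helper19.DiagComp

variable {S : Scheme.{u}} {𝒳 𝒴 : AlgSt.Cat S}

/-- an equivalence is a quasi-compact morphism. -/
theorem isQuasiCompactMor_of_isEquivOver {𝒜 ℬ : AlgSt.Cat S} (e : 𝒜 ⥤ᵇ ℬ) (he : IsEquivOver e) :
    IsQuasiCompactMor Scheme.fppfPrecoverage e := by
  intro 𝒵 h𝒵 hqc g
  have h1 : IsEquivOver (fpFst g e) :=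
    Groth.Agent.Helper19.StkMore.isEquivOver_fpFst_of_equiv g e he
  obtain ⟨e', he', -, -⟩ := IsEquivOver.exists_inv h1
  exact Groth.Agent.Helper19.QcMor.isQuasiCompact_of_equiv e' he' hqc

/-- the diagonal of a morphism which is locally surjective on morphisms is surjective on points. -/
theorem isSurjective_diag_of_locSurjHom (h𝒳 : IsFibGrpd 𝒳.p) (F : 𝒳 ⥤ᵇ 𝒴)
    (hF : LocSurjHom (QuotSh.J Scheme.fppfPrecoverage S) F) : IsSurjective (diag F) := by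
  intro w
  obtain ⟨q, rfl⟩ := Points.mk_surjective w
  have hx₁ : 𝒳.p.obj q.obj.obj.fst = pt q := q.lies
  have hb : 𝒴.p.IsHomLift (𝟙 (pt q)) q.obj.obj.iso.hom := by
    have h0 : 𝒴.p.IsHomLift (𝟙 (𝒳.p.obj q.obj.obj.fst)) q.obj.obj.iso.hom := q.obj.property
    rw [hx₁] at h0
    exact h0
  have h3 := (locSurjHom_iff _ h𝒳 F).1 hF _ _ q.obj.obj.iso.hom (pt q) hx₁ hb
  obtain ⟨L, _, s, k, x₀, φ, ψ, hφ, hψ, hb'⟩ := exists_field_arrow_of_mem_J _ h3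
  have hx₀ : 𝒳.p.obj x₀ = Over.mk s := IsHomLift.domain_eq 𝒳.p k φ
  let r : FPt 𝒳 := { K := L, str := s, obj := x₀, lies := hx₀ }
  refine ⟨Points.mk r, ?_⟩
  rw [Points.map_mk]
  have e1 : F.map φ ≫ q.obj.obj.iso.hom = ((diag F).obj x₀).obj.iso.hom ≫ F.map ψ := by
    rw [hb']
    simp
  exact Points.sound (rel_of_hom (p := r.map (diag F)) (q := q) (fpHomMk φ ψ e1))

/-- S16870. -/
theorem isQuasiCompactMor_diag_of_isGerbeOver (h𝒳 : IsAlgStack Scheme.fppfPrecoverage 𝒳)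
    (h𝒴 : IsAlgStack Scheme.fppfPrecoverage 𝒴) (F : 𝒳 ⥤ᵇ 𝒴)
    (hF : IsGerbeOver (QuotSh.J Scheme.fppfPrecoverage S) F)
    (hΔ : IsQuasiCompactMor Scheme.fppfPrecoverage (diag (toSelf 𝒳))) :
    IsQuasiCompactMor Scheme.fppfPrecoverage (diag (toSelf 𝒴)) := by
  have hS : IsAlgStack Scheme.fppfPrecoverage (selfOver (Over S)) :=
    Groth.Agent.Helper19.QcPts.isAlgStack_selfOver S
  have hPX : IsAlgStack Scheme.fppfPrecoverage (fp (toSelf 𝒳) (toSelf 𝒳)) :=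
    Groth.Agent.Helper19.ProdAlg.isAlgStack_fp hS.isStack hS.diag h𝒳 h𝒳 _ _
  have hPXt : IsAlgStack Scheme.fppfPrecoverage
      (fp (BasedFunctor.comp F (toSelf 𝒴)) (BasedFunctor.comp F (toSelf 𝒴))) :=
    Groth.Agent.Helper19.ProdAlg.isAlgStack_fp hS.isStack hS.diag h𝒳 h𝒳 _ _
  have hPY : IsAlgStack Scheme.fppfPrecoverage (fp (toSelf 𝒴) (toSelf 𝒴)) :=
    Groth.Agent.Helper19.ProdAlg.isAlgStack_fp hS.isStack hS.diag h𝒴 h𝒴 _ _
  have hPF : IsAlgStack Scheme.fppfPrecoverage (fp F F) :=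
    Groth.Agent.Helper19.ProdAlg.isAlgStack_fp h𝒴.isStack h𝒴.diag h𝒳 h𝒳 _ _
  -- step 1: the diagonal of `𝒳` over `S` computed through `F`
  have h1 : IsQuasiCompactMor Scheme.fppfPrecoverage (diag (BasedFunctor.comp F (toSelf 𝒴))) :=
    Groth.Agent.Helper19.QcPts.isQuasiCompactMor_of_iso
      (Groth.Agent.Helper19.CancelLib.diagCongrIso
        (Groth.Agent.Helper19.DiagLib.selfOverIso (toSelf 𝒳) (BasedFunctor.comp F (toSelf 𝒴))))
      (Groth.Agent.Helper19.QcMor.isQuasiCompactMor_comp hPX hPXt _ _ hΔ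
        (isQuasiCompactMor_of_isEquivOver _ (Groth.Agent.Helper19.CancelLib.isEquivOver_fpCongr _)))
  -- step 2
  have hsurj : IsSurjective (diag F) := isSurjective_diag_of_locSurjHom h𝒳.isStack.1 F hF.2
  have h2 : IsQuasiCompactMor Scheme.fppfPrecoverage
      (cmpI F F (toSelf 𝒴) (cmpE F (toSelf 𝒴))) :=
    Groth.Agent.Helper19.QcPts.isQuasiCompactMor_of_isSurjective_of_triangle h𝒳 hPF hPXt (diag F)
      (diag (BasedFunctor.comp F (toSelf 𝒴))) _ (diagCompIso F (toSelf 𝒴)).symm hsurj h1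
  -- step 3
  have hPW : IsAlgStack Scheme.fppfPrecoverage
      (fp (cmpProd F F (toSelf 𝒴)) (diag (toSelf 𝒴))) :=
    Groth.Agent.Helper19.ProdAlg.isAlgStack_fp hPY.isStack hPY.diag hPXt h𝒴 _ _
  have hΦ : IsEquivOver (cmpΦ F F (toSelf 𝒴) (cmpE F (toSelf 𝒴)) (cmpE_app F (toSelf 𝒴))) :=
    isEquivOver_cmpΦ _ _ _ _ _
  have h3 : IsQuasiCompactMor Scheme.fppfPrecoverage
      (fpFst (cmpProd F F (toSelf 𝒴)) (diag (toSelf 𝒴))) :=
    Groth.Agent.Helper19.QcPts.isQuasiCompactMor_of_isSurjective_of_triangle hPF hPW hPXt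
      (cmpΦ F F (toSelf 𝒴) (cmpE F (toSelf 𝒴)) (cmpE_app F (toSelf 𝒴)))
      (cmpI F F (toSelf 𝒴) (cmpE F (toSelf 𝒴))) _ (Iso.refl _) (mapHomeo _ hΦ).surjective h2
  -- step 4
  have hWg : IsGerbeOver (QuotSh.J Scheme.fppfPrecoverage S) (cmpProd F F (toSelf 𝒴)) :=
    isGerbeOver_cmpProd _ h𝒳.isStack.1 h𝒳.isStack.1 h𝒴.isStack.1
      (Groth.Agent.Helper19.CancelLib.isFibGrpd_selfOver _) F F (toSelf 𝒴) hF hF
  have hWh := isUnivHomeo_of_isGerbeOver hPXt hPY _ hWg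
  exact Groth.Agent.Helper19.QcPts.isQuasiCompactMor_of_fpFst_cover h𝒴 hPY hPXt (diag (toSelf 𝒴))
    (cmpProd F F (toSelf 𝒴))
    (fun 𝒵 h𝒵 g => ⟨(hWh 𝒵 h𝒵 g).isOpenMap, (hWh 𝒵 h𝒵 g).surjective⟩) h3

end Groth.Agent.Helper19.GerbD
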