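import Mathlib
import Groth.Agent.Lib.Helper19.GerbD.Lift
import Groth.Agent.Lib.Helper19.FibLib2

/-!
# Being a gerbe descends along a surjective flat locally finitely presented base change (helper19)
-/

set_option autoImplicit false
set_option backward.isDefEq.respectTransparency false

universe u

open CategoryTheory CategoryTheory.Limits AlgebraicGeometry

namespace Groth.Agent.Helper19.GerbD

open FibCat AlgSt Gerb Groth.Agent.Helper19.FibLib Groth.Agent.Helper19.YonLib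
  Groth.Agent.Helper19.StPts

variable {S : Scheme.{u}} {𝒳 𝒴 𝒴' : AlgSt.Cat S}

theorem locSurjObj_of_fpFst (h𝒳 : IsAlgStack Scheme.fppfPrecoverage 𝒳)
    (h𝒴 : IsAlgStack Scheme.fppfPrecoverage 𝒴)
    (h𝒴' : IsAlgStack Scheme.fppfPrecoverage 𝒴') (f : 𝒳 ⥤ᵇ 𝒴) (g : 𝒴' ⥤ᵇ 𝒴) (hg₁ : IsSurjective g)
    (hg₂ : LocQ (AlgSp.LocP @Flat) g) (hg₃ : LocQ (AlgSp.LocP @LocallyOfFinitePresentation) g)
    (h : LocSurjObj (QuotSh.J Scheme.fppfPrecoverage S) (fpFst g f)) :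
    LocSurjObj (QuotSh.J Scheme.fppfPrecoverage S) f := by
  rw [locSurjObj_iff _ h𝒳.isStack.1]
  intro y U hy
  obtain ⟨ι, V, c, hcov, hl⟩ := exists_cover_lift h𝒴 h𝒴' g hg₁ hg₂ hg₃ y U hy
  refine mem_of_ofArrows _ _ V c hcov (fun i => ?_)
  obtain ⟨y', μ, hμ⟩ := hl i
  have hy' : 𝒴'.p.obj y' = V i := by
    rw [← g.w_obj]
    exact IsHomLift.domain_eq 𝒴.p (c i) μ
  have hfp : IsFibGrpd (fp g f).p :=
    Groth.Agent.S6401.result g f h𝒴'.isStack.1 h𝒳.isStack.1 h𝒴.isStack.1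
  refine ⟨_, (locSurjObj_iff _ hfp (fpFst g f)).1 h y' (V i) hy', ?_⟩
  rintro W k ⟨z, m, hm⟩
  have hzW : 𝒴'.p.obj z.obj.fst = W := IsHomLift.domain_eq 𝒴'.p k m
  have hiso : 𝒴.p.IsHomLift (𝟙 W) z.obj.iso.hom := by
    have h0 : 𝒴.p.IsHomLift (𝟙 (𝒴'.p.obj z.obj.fst)) z.obj.iso.hom := z.property
    rw [hzW] at h0
    exact h0
  have hinv : 𝒴.p.IsHomLift (𝟙 W) z.obj.iso.inv := inferInstance
  have hgm : 𝒴.p.IsHomLift k (g.map m) := inferInstance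
  refine ⟨z.obj.snd, z.obj.iso.inv ≫ g.map m ≫ μ, ?_⟩
  have h3 : 𝒴.p.IsHomLift (𝟙 W ≫ k ≫ c i) (z.obj.iso.inv ≫ g.map m ≫ μ) := inferInstance
  simpa using h3

theorem locSurjHom_of_fpFst (h𝒳 : IsAlgStack Scheme.fppfPrecoverage 𝒳)
    (h𝒴 : IsAlgStack Scheme.fppfPrecoverage 𝒴)
    (h𝒴' : IsAlgStack Scheme.fppfPrecoverage 𝒴') (f : 𝒳 ⥤ᵇ 𝒴) (g : 𝒴' ⥤ᵇ 𝒴) (hg₁ : IsSurjective g)
    (hg₂ : LocQ (AlgSp.LocP @Flat) g) (hg₃ : LocQ (AlgSp.LocP @LocallyOfFinitePresentation) g)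
    (h : LocSurjHom (QuotSh.J Scheme.fppfPrecoverage S) (fpFst g f)) :
    LocSurjHom (QuotSh.J Scheme.fppfPrecoverage S) f := by
  rw [locSurjHom_iff _ h𝒳.isStack.1]
  intro x x' b U hx hb
  have hfx : 𝒴.p.obj (f.obj x) = U := (f.w_obj x).trans hx
  have hx'U : 𝒳.p.obj x' = U := by
    rw [← f.w_obj]
    exact IsHomLift.codomain_eq 𝒴.p (𝟙 U) b
  obtain ⟨ι, V, c, hcov, hl⟩ := exists_cover_lift h𝒴 h𝒴' g hg₁ hg₂ hg₃ (f.obj x) U hfx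
  refine mem_of_ofArrows _ _ V c hcov (fun i => ?_)
  obtain ⟨y', μ, hμ⟩ := hl i
  have hy' : 𝒴'.p.obj y' = V i := by
    rw [← g.w_obj]
    exact IsHomLift.domain_eq 𝒴.p (c i) μ
  have hfp : IsFibGrpd (fp g f).p :=
    Groth.Agent.S6401.result g f h𝒴'.isStack.1 h𝒳.isStack.1 h𝒴.isStack.1
  obtain ⟨xi, χ, hχ⟩ := exists_pullback_obj h𝒳.isStack.1 (c i) x hx
  obtain ⟨xi', χ', hχ'⟩ := exists_pullback_obj h𝒳.isStack.1 (c i) x' hx'U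
  have hfχ : 𝒴.p.IsHomLift (c i) (f.map χ) := inferInstance
  have hfχ' : 𝒴.p.IsHomLift (c i) (f.map χ') := inferInstance
  obtain ⟨κ, hκ, hκc, hκi⟩ := exists_iso_of_lifts h𝒴.isStack.1 (c i) (f.map χ) μ
  have hfb : 𝒴.p.IsHomLift (c i) (f.map χ ≫ b) := by
    have : 𝒴.p.IsHomLift (c i ≫ 𝟙 U) (f.map χ ≫ b) := inferInstance
    simpa using this
  obtain ⟨bi, hbi, hbic, hbii⟩ := exists_iso_of_lifts h𝒴.isStack.1 (c i) (f.map χ') (f.map χ ≫ b)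
  let ι₁ : g.obj y' ≅ f.obj xi := asIso κ
  let ι₂ : g.obj y' ≅ f.obj xi' := asIso κ ≪≫ asIso bi
  have hι₁ : 𝒴.p.IsHomLift (𝟙 (𝒴'.p.obj y')) ι₁.hom := by
    rw [hy']
    exact hκ
  have hι₂ : 𝒴.p.IsHomLift (𝟙 (𝒴'.p.obj y')) ι₂.hom := by
    rw [hy']
    change 𝒴.p.IsHomLift (𝟙 (V i)) (κ ≫ bi)
    have : 𝒴.p.IsHomLift (𝟙 (V i) ≫ 𝟙 (V i)) (κ ≫ bi) := inferInstance
    simpa using this
  let z₁ : (fp g f).obj := ⟨{ fst := y', snd := xi, iso := ι₁ }, hι₁⟩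
  let z₂ : (fp g f).obj := ⟨{ fst := y', snd := xi', iso := ι₂ }, hι₂⟩
  have hz₁ : (fp g f).p.obj z₁ = V i := hy'
  have hid : 𝒴'.p.IsHomLift (𝟙 (V i)) (𝟙 y' : (fpFst g f).obj z₁ ⟶ (fpFst g f).obj z₂) :=
    IsHomLift.id hy'
  refine ⟨_, (locSurjHom_iff _ hfp (fpFst g f)).1 h z₁ z₂ (𝟙 y') (V i) hz₁ hid, ?_⟩
  rintro W k ⟨z₀, Φ, Ψ, hΦ, hΨ, hΦΨ⟩
  have h1 : g.map Φ.hom.fst ≫ κ = z₀.obj.iso.hom ≫ f.map Φ.hom.snd := Φ.hom.w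
  have h2 : g.map Ψ.hom.fst ≫ κ ≫ bi = z₀.obj.iso.hom ≫ f.map Ψ.hom.snd := Ψ.hom.w
  have h3 : Φ.hom.fst = Ψ.hom.fst := by
    have : Φ.hom.fst ≫ 𝟙 y' = Ψ.hom.fst := hΦΨ
    rwa [Category.comp_id] at this
  have h4 : f.map Φ.hom.snd ≫ bi = f.map Ψ.hom.snd := by
    rw [← cancel_epi z₀.obj.iso.hom, ← Category.assoc, ← h1, ← h2, h3, Category.assoc]
  have hΦs : 𝒳.p.IsHomLift k Φ.hom.snd :=
    (inferInstance : 𝒳.p.IsHomLift k ((fpSnd g f).map Φ))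
  have hΨs : 𝒳.p.IsHomLift k Ψ.hom.snd :=
    (inferInstance : 𝒳.p.IsHomLift k ((fpSnd g f).map Ψ))
  refine ⟨z₀.obj.snd, Φ.hom.snd ≫ χ, Ψ.hom.snd ≫ χ', inferInstance, inferInstance, ?_⟩
  rw [f.toFunctor.map_comp, f.toFunctor.map_comp, Category.assoc, ← hbic, ← Category.assoc, h4]

/-- S16865. -/
theorem isGerbeOver_of_fpFst (h𝒳 : IsAlgStack Scheme.fppfPrecoverage 𝒳)
    (h𝒴 : IsAlgStack Scheme.fppfPrecoverage 𝒴)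
    (h𝒴' : IsAlgStack Scheme.fppfPrecoverage 𝒴') (f : 𝒳 ⥤ᵇ 𝒴) (g : 𝒴' ⥤ᵇ 𝒴) (hg₁ : IsSurjective g)
    (hg₂ : LocQ (AlgSp.LocP @Flat) g) (hg₃ : LocQ (AlgSp.LocP @LocallyOfFinitePresentation) g)
    (h : IsGerbeOver (QuotSh.J Scheme.fppfPrecoverage S) (fpFst g f)) :
    IsGerbeOver (QuotSh.J Scheme.fppfPrecoverage S) f :=
  ⟨locSurjObj_of_fpFst h𝒳 h𝒴 h𝒴' f g hg₁ hg₂ hg₃ h.1,
    locSurjHom_of_fpFst h𝒳 h𝒴 h𝒴' f g hg₁ hg₂ hg₃ h.2⟩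

end Groth.Agent.Helper19.GerbD
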