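import Mathlib
import Groth.Agent.Lib.Helper19.GerbD.Sieves
import Groth.Agent.Lib.Helper19.RestrTop
import Groth.Agent.Lib.Helper19.FibLib

/-!
# A gerbe over a stack is a gerbe over the site of the stack with the inherited topology (helper19)
-/

set_option autoImplicit false
set_option backward.isDefEq.respectTransparency false

universe v₄ u₄ v₃ u₃ v₂ u₂ v u

open CategoryTheory CategoryTheory.Limits

namespace Groth.Agent.Helper19.GerbD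

open FibCat Stk Gerb Groth.Agent.Helper19.FibLib

variable {C : Type u} [Category.{v} C] (J : GrothendieckTopology C)
  {𝒳 : BasedCategory.{v₂, u₂} C} {𝒴 : BasedCategory.{v₃, u₃} C} {𝒳' : BasedCategory.{v₄, u₄} C}

theorem locSurjObj_toSelf_ofFunctor (h𝒳 : IsFibGrpd 𝒳.p) (h𝒴 : IsFibGrpd 𝒴.p)
    (a : 𝒳 ⥤ᵇ 𝒳') (F' : 𝒳' ⥤ᵇ 𝒴) (hF' : IsFibGrpd F'.toFunctor)
    (hF : LocSurjObj J (BasedFunctor.comp a F')) :
    LocSurjObj (𝒴.p.restrictedTopology J) (toSelf (BasedCategory.ofFunctor F'.toFunctor)) := by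
  rw [locSurjObj_iff _ (𝒳 := BasedCategory.ofFunctor F'.toFunctor) hF']
  intro y U hy
  subst hy
  rw [Groth.Agent.Helper19.RestrTop.mem_restrictedTopology_iff 𝒴.p h𝒴 J]
  have h1 := (locSurjObj_iff J h𝒳 (BasedFunctor.comp a F')).1 hF y _ rfl
  refine J.superset_covering ?_ h1
  rintro V f₀ ⟨x, m, hm⟩
  have hd : 𝒴.p.obj (F'.obj (a.obj x)) = V := IsHomLift.domain_eq 𝒴.p f₀ m
  refine ⟨F'.obj (a.obj x), m, eqToHom hd.symm, ⟨a.obj x, m, ?_⟩, ?_⟩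
  · exact IsHomLift.map (selfOver 𝒴.obj).p m
  · have h2 := IsHomLift.fac 𝒴.p f₀ m
    simpa using h2

theorem locSurjHom_toSelf_ofFunctor (h𝒳 : IsFibGrpd 𝒳.p) (h𝒴 : IsFibGrpd 𝒴.p)
    (a : 𝒳 ⥤ᵇ 𝒳') (ha : IsEquivOver a) (F' : 𝒳' ⥤ᵇ 𝒴) (hF' : IsFibGrpd F'.toFunctor)
    (hF : LocSurjHom J (BasedFunctor.comp a F')) :
    LocSurjHom (𝒴.p.restrictedTopology J) (toSelf (BasedCategory.ofFunctor F'.toFunctor)) := by
  obtain ⟨G, -, -, ⟨ε⟩⟩ := IsEquivOver.exists_inv ha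
  rw [locSurjHom_iff _ (𝒳 := BasedCategory.ofFunctor F'.toFunctor) hF']
  intro x x' b U hx hb
  subst hx
  rw [Groth.Agent.Helper19.RestrTop.mem_restrictedTopology_iff 𝒴.p h𝒴 J]
  change F'.obj x ⟶ F'.obj x' at b
  have hb0 : (selfOver 𝒴.obj).p.IsHomLift (𝟙 (F'.obj x)) b := hb
  have hcod : F'.obj x' = F'.obj x := IsHomLift.codomain_eq (selfOver 𝒴.obj).p (𝟙 (F'.obj x)) b
  have hbe : b = eqToHom hcod.symm := by
    have h0 : (𝟭 𝒴.obj).map b = _ := IsHomLift.fac' (selfOver 𝒴.obj).p (𝟙 (F'.obj x)) b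
    rw [Functor.id_map] at h0
    rw [h0]
    simp
  -- objects of `𝒳` mapping to `x`, `x'`
  have hS : 𝒳'.p.obj x = 𝒴.p.obj (F'.obj x) := (F'.w_obj x).symm
  have hS' : 𝒳'.p.obj x' = 𝒴.p.obj (F'.obj x) := by rw [← hcod]; exact (F'.w_obj x').symm
  have he : 𝒳'.p.IsHomLift (𝟙 (𝒴.p.obj (F'.obj x))) (appIso ε x).hom :=
    BasedNatTrans.isHomLift ε.hom hS
  have he' : 𝒳'.p.IsHomLift (𝟙 (𝒴.p.obj (F'.obj x))) (appIso ε x').hom :=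
    BasedNatTrans.isHomLift ε.hom hS'
  have he'i : 𝒳'.p.IsHomLift (𝟙 (𝒴.p.obj (F'.obj x))) (appIso ε x').inv := inferInstance
  have hFe : 𝒴.p.IsHomLift (𝟙 (𝒴.p.obj (F'.obj x))) (F'.map (appIso ε x).hom) := inferInstance
  have hFe' : 𝒴.p.IsHomLift (𝟙 (𝒴.p.obj (F'.obj x))) (F'.map (appIso ε x').inv) := inferInstance
  have hb' : 𝒴.p.IsHomLift (𝟙 (𝒴.p.obj (F'.obj x))) b := by
    rw [hbe]
    exact IsHomLift.eqToHom_domain_lift_id hcod.symm rfl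
  let b₁ : (BasedFunctor.comp a F').obj (G.obj x) ⟶ (BasedFunctor.comp a F').obj (G.obj x') :=
    F'.map (appIso ε x).hom ≫ b ≫ F'.map (appIso ε x').inv
  have hb₁ : 𝒴.p.IsHomLift (𝟙 (𝒴.p.obj (F'.obj x))) b₁ := by
    have h3 : 𝒴.p.IsHomLift (𝟙 (𝒴.p.obj (F'.obj x)) ≫ 𝟙 _ ≫ 𝟙 _)
        (F'.map (appIso ε x).hom ≫ b ≫ F'.map (appIso ε x').inv) := inferInstance
    simp only [Category.id_comp] at h3
    exact h3
  have hx₁ : 𝒳.p.obj (G.obj x) = 𝒴.p.obj (F'.obj x) := by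
    rw [← (BasedFunctor.comp a F').w_obj]
    exact IsHomLift.domain_eq 𝒴.p (𝟙 _) b₁
  have h1 := (locSurjHom_iff J h𝒳 (BasedFunctor.comp a F')).1 hF (G.obj x) (G.obj x') b₁ _ hx₁ hb₁
  refine J.superset_covering ?_ h1
  rintro V f₀ ⟨x₀, φ₀, ψ₀, hφ₀, hψ₀, hrel⟩
  change V ⟶ 𝒴.p.obj (F'.obj x) at f₀
  have h41 : 𝒳'.p.IsHomLift f₀ (a.map φ₀) := inferInstance
  have h4 : 𝒳'.p.IsHomLift f₀ (a.map φ₀ ≫ (appIso ε x).hom) := by
    have h5 : 𝒳'.p.IsHomLift (f₀ ≫ 𝟙 (𝒴.p.obj (F'.obj x))) (a.map φ₀ ≫ (appIso ε x).hom) :=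
      inferInstance
    simp only [Category.comp_id] at h5
    exact h5
  have h6 : 𝒴.p.IsHomLift f₀ (F'.map (a.map φ₀ ≫ (appIso ε x).hom)) := inferInstance
  have hd : 𝒴.p.obj (F'.obj (a.obj x₀)) = V :=
    IsHomLift.domain_eq 𝒴.p f₀ (F'.map (a.map φ₀ ≫ (appIso ε x).hom))
  have hrel' : F'.map (a.map φ₀ ≫ (appIso ε x).hom) ≫ b = F'.map (a.map ψ₀ ≫ (appIso ε x').hom) := by
    have h7 : F'.map (a.map φ₀) ≫ F'.map (appIso ε x).hom ≫ b ≫ F'.map (appIso ε x').inv =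
        F'.map (a.map ψ₀) := hrel
    rw [F'.toFunctor.map_comp, F'.toFunctor.map_comp, ← h7]
    simp only [Category.assoc]
    rw [← F'.toFunctor.map_comp, Iso.inv_hom_id, F'.toFunctor.map_id, Category.comp_id]
  refine ⟨F'.obj (a.obj x₀), F'.map (a.map φ₀ ≫ (appIso ε x).hom), eqToHom hd.symm,
    ⟨a.obj x₀, a.map φ₀ ≫ (appIso ε x).hom, a.map ψ₀ ≫ (appIso ε x').hom, ?_, ?_, hrel'⟩, ?_⟩
  · exact IsHomLift.map F'.toFunctor _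
  · refine IsHomLift.of_fac F'.toFunctor _ _ rfl hcod ?_
    rw [← hrel', hbe]
    simp
  · have h2 := IsHomLift.fac 𝒴.p f₀ (F'.map (a.map φ₀ ≫ (appIso ε x).hom))
    simpa using h2

/-- S16886. -/
theorem isGerbe_ofFunctor {𝒳 𝒴 𝒳' : BasedCategory.{v, max u v} C} (h𝒳 : Stk.IsStack J 𝒳)
    (h𝒴 : Stk.IsStack J 𝒴) (h𝒳' : Stk.IsStack J 𝒳')
    (a : 𝒳 ⥤ᵇ 𝒳') (ha : IsEquivOver a) (F' : 𝒳' ⥤ᵇ 𝒴) (hF' : IsFibGrpd F'.toFunctor)
    (hst : Stk.IsStack J 𝒳' → Stk.IsStack (𝒴.p.restrictedTopology J)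
      (BasedCategory.ofFunctor F'.toFunctor))
    (hF : IsGerbeOver J (BasedFunctor.comp a F')) :
    IsGerbe (𝒴.p.restrictedTopology J) (BasedCategory.ofFunctor F'.toFunctor) :=
  ⟨hst h𝒳', locSurjObj_toSelf_ofFunctor J h𝒳.1 h𝒴.1 a F' hF' hF.1,
    locSurjHom_toSelf_ofFunctor J h𝒳.1 h𝒴.1 a ha F' hF' hF.2⟩

end Groth.Agent.Helper19.GerbD
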